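import Groth.Agent.Lib.HDIRestrict3.Basic
import Groth.Agent.Lib.DualCx22.FlatHom
import Mathlib.LinearAlgebra.TensorProduct.Pi
import Mathlib.RingTheory.Flat.Basic

/-!
# Local cohomology of complexes and flat base change
-/

set_option autoImplicit false
set_option linter.style.haveILetI false
universe u v w

open CategoryTheory CategoryTheory.Limits TensorProduct

attribute [local instance] HasDerivedCategory.standard

namespace GrothLib.HDIRestrict3

open GrothLib.RGamma

section Algebra

variable {A B : Type u} [CommRing A] [IsNoetherianRing A] [CommRing B] [Algebra A B] [Module.Flat A B]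

/-- Torsion commutes with flat base change. -/
theorem mem_range_lTensor_torsionSub (J : Ideal A) (M : Type u) [AddCommGroup M] [Module A M]
    (x : B ⊗[A] M) (hx : x ∈ DRing.torsionSub J (B ⊗[A] M)) :
    x ∈ LinearMap.range ((DRing.torsionSub J M).subtype.lTensor B) := by
  classical
  obtain ⟨n, hn⟩ := hx
  obtain ⟨k, a, ha⟩ := Submodule.fg_iff_exists_fin_generating_family.1 (IsNoetherian.noetherian (J ^ n))
  let φ : M →ₗ[A] (Fin k → M) := LinearMap.pi fun j => a j • LinearMap.id
  have key : ∀ j, (LinearMap.proj j).comp ((TensorProduct.piRight A A B fun _ : Fin k => M).toLinearMap.comp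
      (φ.lTensor B)) = a j • LinearMap.id := fun j => TensorProduct.ext' fun b m => by
    simp [φ, TensorProduct.tmul_smul]
  have hker : φ.lTensor B x = 0 := by
    refine (TensorProduct.piRight A A B fun _ : Fin k => M).injective ?_
    rw [map_zero]
    funext j
    exact (LinearMap.congr_fun (key j) x).trans
      (hn (a j) (ha ▸ Submodule.subset_span (Set.mem_range_self j)))
  have hex : Function.Exact (LinearMap.ker φ).subtype φ := fun y =>
    ⟨fun h => ⟨⟨y, h⟩, rfl⟩, by rintro ⟨z, rfl⟩; exact z.2⟩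
  obtain ⟨z, hz⟩ := (Module.Flat.lTensor_exact B hex x).1 hker
  have hle : LinearMap.ker φ ≤ DRing.torsionSub J M := fun m hm => ⟨n, fun r hr => by
    rw [← ha] at hr
    induction hr using Submodule.span_induction with
    | mem r hr =>
      obtain ⟨j, rfl⟩ := hr
      exact congrFun (LinearMap.mem_ker.1 hm) j
    | zero => exact zero_smul A m
    | add r s _ _ h h' => rw [add_smul, h, h', add_zero]
    | smul c r _ h => rw [smul_eq_mul, mul_smul, h, smul_zero]⟩
  refine ⟨(Submodule.inclusion hle).lTensor B z, ?_⟩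
  rw [← LinearMap.comp_apply, ← LinearMap.lTensor_comp, Submodule.subtype_comp_inclusion]
  exact hz

omit [IsNoetherianRing A] [Module.Flat A B] in
theorem lTensor_mem_torsionSub (J : Ideal A) (M : Type u) [AddCommGroup M] [Module A M]
    (y : B ⊗[A] DRing.torsionSub J M) :
    (DRing.torsionSub J M).subtype.lTensor B y ∈ DRing.torsionSub J (B ⊗[A] M) := by
  induction y using TensorProduct.induction_on with
  | zero => rw [map_zero]; exact zero_mem _
  | tmul b t => exact DRing.map_mem_torsionSub J (TensorProduct.mk A B M b) t.2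
  | add y y' h₁ h₂ => rw [map_add]; exact add_mem h₁ h₂

/-- Flat base change preserves softness over the base. -/
theorem isSoft_tensor (M : Type u) [AddCommGroup M] [Module A M] (h : IsSoft (A := A) M) :
    IsSoft (A := A) (B ⊗[A] M) := by
  intro J f x hx n
  have hmem := mem_range_lTensor_torsionSub J M x hx
  obtain ⟨z, rfl⟩ := hmem
  clear hx
  suffices ∃ y : B ⊗[A] DRing.torsionSub J M, ∃ m : ℕ,
      f ^ m • (f ^ n • (DRing.torsionSub J M).subtype.lTensor B y -
        (DRing.torsionSub J M).subtype.lTensor B z) = 0 by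
    obtain ⟨y, m, hm⟩ := this
    exact ⟨_, lTensor_mem_torsionSub J M y, m, hm⟩
  induction z using TensorProduct.induction_on with
  | zero => exact ⟨0, 0, by simp⟩
  | tmul b t =>
    obtain ⟨y, hy, m, hm⟩ := h J f t.1 t.2 n
    refine ⟨b ⊗ₜ ⟨y, hy⟩, m, ?_⟩
    rw [LinearMap.lTensor_tmul, LinearMap.lTensor_tmul, ← TensorProduct.tmul_smul, ← TensorProduct.tmul_sub,
      ← TensorProduct.tmul_smul]
    exact (congrArg (b ⊗ₜ[A] ·) hm).trans (TensorProduct.tmul_zero M b)
  | add z₁ z₂ h₁ h₂ =>
    obtain ⟨y₁, m₁, e₁⟩ := h₁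
    obtain ⟨y₂, m₂, e₂⟩ := h₂
    refine ⟨y₁ + y₂, m₁ + m₂, ?_⟩
    rw [map_add, map_add, smul_add, add_sub_add_comm, smul_add, pow_add]
    rw [mul_smul, mul_smul, smul_comm (f ^ m₁), e₁, e₂, smul_zero, smul_zero, add_zero]

end Algebra

section Extend

variable {A B : Type u} [CommRing A] [IsNoetherianRing A] [CommRing B] (φ : A →+* B) (hφ : φ.Flat)
  (I : Ideal A)

include hφ in
/-- The terms of a flat base change of soft modules are soft over the base. -/
theorem isSoft_extend (M : ModuleCat.{u} A) (h : IsSoft (A := A) M) :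
    IsSoft (A := A) ((ModuleCat.restrictScalars.{u} φ).obj ((ModuleCat.extendScalars.{u, u, u} φ).obj M)) := by
  letI := φ.toAlgebra
  haveI : Module.Flat A B := hφ
  exact isSoft_of_linearEquiv
    (N := ((ModuleCat.restrictScalars.{u} φ).obj ((ModuleCat.extendScalars.{u, u, u} φ).obj M)))
    { toFun := fun z : B ⊗[A] M => z
      invFun := fun z => z
      map_add' := fun _ _ => rfl
      map_smul' := fun a z => (algebraMap_smul B a z).symm
      left_inv := fun _ => rfl
      right_inv := fun _ => rfl } (isSoft_tensor (M := M) h)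

omit [IsNoetherianRing A] in
theorem extend_map_apply {M N : ModuleCat.{u} A} (g : M ⟶ N) :
    letI := φ.toAlgebra
    ∀ z : B ⊗[A] M, @Eq (B ⊗[A] N) (((ModuleCat.extendScalars.{u, u, u} φ).map g).hom z)
      (g.hom.lTensor B z) := by
  letI := φ.toAlgebra
  intro z
  induction z using TensorProduct.induction_on with
  | zero => exact (((ModuleCat.extendScalars.{u, u, u} φ).map g).hom.map_zero).trans (map_zero _).symm
  | tmul b m => rfl
  | add x y hx hy =>
    exact (((ModuleCat.extendScalars.{u, u, u} φ).map g).hom.map_add x y).trans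
      ((congrArg₂ (· + ·) hx hy).trans (map_add (g.hom.lTensor B) x y).symm)

omit [IsNoetherianRing A] in
theorem mem_torsionSub_extend (M : ModuleCat.{u} A) :
    letI := φ.toAlgebra
    ∀ z : B ⊗[A] M, ((z : (ModuleCat.extendScalars.{u, u, u} φ).obj M) ∈
        DRing.torsionSub (I.map φ) ((ModuleCat.extendScalars.{u, u, u} φ).obj M) ↔
      z ∈ DRing.torsionSub I (B ⊗[A] M)) := by
  letI := φ.toAlgebra
  intro z
  refine (mem_torsionSub_restrict φ I _ _).symm.trans ⟨?_, ?_⟩
  · rintro ⟨n, hn⟩
    exact ⟨n, fun a ha => (algebraMap_smul B a z).symm.trans (hn a ha)⟩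
  · rintro ⟨n, hn⟩
    exact ⟨n, fun a ha => (algebraMap_smul B a z).trans (hn a ha)⟩

omit [IsNoetherianRing A] in
theorem extend_ι_mem (M : ModuleCat.{u} A)
    (z : (ModuleCat.extendScalars.{u, u, u} φ).obj ((DRing.gammaI I).obj M)) :
    ((ModuleCat.extendScalars.{u, u, u} φ).map ((DRing.gammaIι I).app M)).hom z ∈
      DRing.torsionSub (I.map φ) ((ModuleCat.extendScalars.{u, u, u} φ).obj M) := by
  letI := φ.toAlgebra
  refine (mem_torsionSub_extend φ I M _).2 ?_
  exact (congrArg (· ∈ DRing.torsionSub I (B ⊗[A] M)) (extend_map_apply φ ((DRing.gammaIι I).app M) z)).mpr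
    (lTensor_mem_torsionSub (B := B) I M (z : B ⊗[A] DRing.torsionSub I M))

/-- `B ⊗ Γ_I M → Γ_{IB} (B ⊗ M)`. -/
noncomputable def extendΓ (M : ModuleCat.{u} A) :
    (ModuleCat.extendScalars.{u, u, u} φ).obj ((DRing.gammaI I).obj M) ⟶
      (DRing.gammaI (I.map φ)).obj ((ModuleCat.extendScalars.{u, u, u} φ).obj M) :=
  ModuleCat.ofHom (X := ((ModuleCat.extendScalars.{u, u, u} φ).obj ((DRing.gammaI I).obj M) : Type u))
    (Y := DRing.torsionSub (I.map φ) ((ModuleCat.extendScalars.{u, u, u} φ).obj M))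
    (LinearMap.codRestrict (DRing.torsionSub (I.map φ) ((ModuleCat.extendScalars.{u, u, u} φ).obj M))
      ((ModuleCat.extendScalars.{u, u, u} φ).map ((DRing.gammaIι I).app M)).hom (extend_ι_mem φ I M))

theorem extendΓ_ι (M : ModuleCat.{u} A) :
    extendΓ φ I M ≫ (DRing.gammaIι (I.map φ)).app _ =
      (ModuleCat.extendScalars.{u, u, u} φ).map ((DRing.gammaIι I).app M) :=
  ModuleCat.hom_ext (LinearMap.ext fun _ => rfl)

include hφ in
theorem isIso_extendΓ (M : ModuleCat.{u} A) : IsIso (extendΓ φ I M) := by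
  rw [ConcreteCategory.isIso_iff_bijective]
  letI := φ.toAlgebra
  haveI : Module.Flat A B := hφ
  constructor
  · intro x y hxy
    have h := Module.Flat.lTensor_preserves_injective_linearMap (M := B) (DRing.torsionSub I M).subtype
      Subtype.val_injective
    refine h ?_
    exact ((extend_map_apply φ ((DRing.gammaIι I).app M) x).symm.trans (congrArg Subtype.val hxy)).trans
      (extend_map_apply φ ((DRing.gammaIι I).app M) y)
  · intro y
    have hr := mem_range_lTensor_torsionSub (B := B) I M y.1 ((mem_torsionSub_extend φ I M y.1).1 y.2)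
    obtain ⟨z, hz⟩ := hr
    exact ⟨z, Subtype.ext ((extend_map_apply φ ((DRing.gammaIι I).app M) z).trans hz)⟩

/-- `B ⊗ Γ_I C ≅ Γ_{IB} (B ⊗ C)`. -/
noncomputable def extendGammaIso (C : CochainComplex (ModuleCat.{u} A) ℤ) :
    ((ModuleCat.extendScalars.{u, u, u} φ).mapHomologicalComplex (ComplexShape.up ℤ)).obj (gammaCx I C) ≅
      gammaCx (I.map φ) (((ModuleCat.extendScalars.{u, u, u} φ).mapHomologicalComplex (ComplexShape.up ℤ)).obj C) :=
  HomologicalComplex.Hom.isoOfComponents (fun n => @asIso _ _ _ _ (extendΓ φ I (C.X n)) (isIso_extendΓ φ hφ I (C.X n))) fun i j _ => by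
    haveI : Mono ((DRing.gammaIι (I.map φ)).app ((ModuleCat.extendScalars.{u, u, u} φ).obj (C.X j))) :=
      (ModuleCat.mono_iff_injective _).2 Subtype.val_injective
    refine (cancel_mono ((DRing.gammaIι (I.map φ)).app ((ModuleCat.extendScalars.{u, u, u} φ).obj (C.X j)))).1 ?_
    refine (Category.assoc _ _ _).trans (Eq.trans ?_ (Category.assoc _ _ _).symm)
    refine Eq.trans (congrArg (extendΓ φ I (C.X i) ≫ ·)
      ((DRing.gammaIι (I.map φ)).naturality ((ModuleCat.extendScalars.{u, u, u} φ).map (C.d i j)))) ?_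
    refine ((Category.assoc _ _ _).symm.trans (congrArg (· ≫ _) (extendΓ_ι φ I (C.X i)))).trans ?_
    refine ((Functor.map_comp _ _ _).symm.trans ?_).trans
      (congrArg (_ ≫ ·) (extendΓ_ι φ I (C.X j)).symm)
    exact (congrArg (ModuleCat.extendScalars.{u, u, u} φ).map
      ((DRing.gammaIι I).naturality (C.d i j)).symm).trans (Functor.map_comp _ _ _)

/-- Base change of a linear equivalence between modules in any universes. -/
noncomputable def extendEquiv {M : ModuleCat.{v} A} {N : ModuleCat.{w} A} (e : M ≃ₗ[A] N) :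
    (ModuleCat.extendScalars.{u, u, v} φ).obj M ≃ₗ[B] (ModuleCat.extendScalars.{u, u, w} φ).obj N :=
  letI := φ.toAlgebra
  (TensorProduct.AlgebraTensorModule.congr (LinearEquiv.refl B B) e : B ⊗[A] M ≃ₗ[B] B ⊗[A] N)

end Extend

/-- `H_{IB}(K ⊗ B) ≅ H_I(K) ⊗ B`. -/
theorem nonempty_HDI_LBaseChange {A B : Type u} [CommRing A] [CommRing B] [Algebra A B]
    [IsNoetherianRing A] [IsNoetherianRing B] [Module.Flat A B] [DRing.HasLBaseChange (algebraMap A B)]
    (I : Ideal A) (K : Dual.D A) (i : ℤ) :
    Nonempty (Dual2.HDI B (I.map (algebraMap A B)) ((DRing.LBaseChange (algebraMap A B)).obj K) i ≅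
      (ModuleCat.extendScalars (algebraMap A B)).obj (Dual2.HDI A I K i)) := by
  let φ := algebraMap A B
  have hφ : φ.Flat := GrothLib.DR.flat_algebraMap
  haveI : PreservesFiniteLimits (DualCx22.bcMod (A := A) B) :=
    GrothLib.DR.preservesFiniteLimits_extendScalars (algebraMap A B) GrothLib.DR.flat_algebraMap
  haveI := GrothLib.DualCx22.hasRgammaI I
  haveI := GrothLib.DualCx22.hasRgammaI (I.map φ)
  obtain ⟨C, hC, hinj, k, e, -⟩ := exists_model I K
  let F := (DualCx22.bcMod (A := A) B).mapHomologicalComplex (ComplexShape.up ℤ)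
  let R := (ModuleCat.restrictScalars.{u} φ).mapHomologicalComplex (ComplexShape.up ℤ)
  let CB := F.obj C
  obtain ⟨E, ι, hι, hE, hEinj⟩ := KInj.exists_kInjective_resolution (ModuleCat.{u} B) CB
  haveI := hι
  haveI := hE
  let ΓB := (DRing.gammaI (I.map φ)).mapHomologicalComplex (ComplexShape.up ℤ)
  have hq : QuasiIso (ΓB.map ι) := by
    rw [← HomologicalComplex.quasiIso_map_iff_of_preservesHomology (ΓB.map ι) (ModuleCat.restrictScalars.{u} φ)]
    haveI : QuasiIso (((DRing.gammaI I).mapHomologicalComplex (ComplexShape.up ℤ)).map (R.map ι)) :=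
      quasiIso_gamma_map I (IsNoetherian.noetherian I) (R.map ι)
        (fun n => isSoft_extend φ hφ (C.X n) (haveI := hinj n; isSoft_of_injective (C.X n)))
        (fun n => isSoft_restrict φ (E.X n) (haveI := hEinj n; isSoft_of_injective (E.X n)))
        (inferInstanceAs (QuasiIso (((ModuleCat.restrictScalars.{u} φ).mapHomologicalComplex _).map ι)))
    exact quasiIso_of_arrow_mk_iso
      (((DRing.gammaI I).mapHomologicalComplex (ComplexShape.up ℤ)).map (R.map ι)) _
      (Arrow.isoMk (gammaRestrictIso φ I CB) (gammaRestrictIso φ I E) rfl)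
  haveI hiso : IsIso (comp (I.map φ) CB) := by
    haveI : IsIso (DerivedCategory.Q.map ι) := Localization.inverts _
      (HomologicalComplex.quasiIso _ (ComplexShape.up ℤ)) _ hι
    haveI : IsIso (DerivedCategory.Q.map (ΓB.map ι)) := Localization.inverts _
      (HomologicalComplex.quasiIso _ (ComplexShape.up ℤ)) _ hq
    haveI := isIso_comp_of_isKInjective (I.map φ) E
    haveI : IsIso (comp (I.map φ) CB ≫ (DRing.RgammaI (I.map φ)).map (DerivedCategory.Q.map ι)) := by
      rw [← comp_naturality]; infer_instance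
    exact IsIso.of_isIso_comp_right (comp (I.map φ) CB)
      ((DRing.RgammaI (I.map φ)).map (DerivedCategory.Q.map ι))
  obtain ⟨eL⟩ := DualCx22.nonempty_lBase_iso_bcD (A := A) B
  let k' : DerivedCategory.Q.obj CB ≅ (DRing.LBaseChange φ).obj K :=
    ((DualCx22.bcMod (A := A) B).mapDerivedCategoryFactors.app C).symm ≪≫
      (DualCx22.bcD (A := A) B).mapIso k ≪≫ (eL.app K).symm
  obtain ⟨eA⟩ := nonempty_HD_equiv_HDI I K i
  obtain ⟨eB⟩ := nonempty_HD_equiv_HDI (I.map φ) ((DRing.LBaseChange φ).obj K) i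
  let e₁ : Dual2.HDI A I K i ≃ₗ[A] (gammaCx I C).homology i :=
    eA.symm.trans ((hdIso e i).trans (hdEquiv (gammaCx I C) i))
  let e₂ : Dual2.HDI B (I.map φ) ((DRing.LBaseChange φ).obj K) i ≃ₗ[B] (gammaCx (I.map φ) CB).homology i :=
    eB.symm.trans ((hdIso ((DRing.RgammaI (I.map φ)).mapIso k'.symm) i).trans
      ((hdIso (asIso (comp (I.map φ) CB)).symm i).trans (hdEquiv (gammaCx (I.map φ) CB) i)))
  let h : (gammaCx (I.map φ) CB).homology i ≅
      (DualCx22.bcMod (A := A) B).obj ((gammaCx I C).homology i) :=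
    ((HomologicalComplex.homologyFunctor _ _ i).mapIso (extendGammaIso φ hφ I C)).symm ≪≫
      ((gammaCx I C).sc i).mapHomologyIso (DualCx22.bcMod (A := A) B)
  exact ⟨(e₂.trans (h.toLinearEquiv.trans (extendEquiv φ e₁.symm))).toModuleIso⟩

end GrothLib.HDIRestrict3
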