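import Groth.Agent.Lib.RGamma.HDI
import Groth.Agent.Lib.RGamma.Noeth
import Groth.Agent.Lib.DualCx22.LocalDual
import Groth.Prelude.Def_DDual2
import Groth.Prelude.Def_DualLC

/-!
# Local cohomology of complexes and restriction of scalars
-/

set_option autoImplicit false
set_option linter.style.haveILetI false
universe u

open CategoryTheory CategoryTheory.Limits

attribute [local instance] HasDerivedCategory.standard

namespace GrothLib.HDIRestrict3

open GrothLib.RGamma

variable {A B : Type u} [CommRing A] [CommRing B] (φ : A →+* B) (I : Ideal A)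

theorem mem_torsionSub_restrict (M : ModuleCat.{u} B) (x : M) :
    (x : (ModuleCat.restrictScalars φ).obj M) ∈ DRing.torsionSub I ((ModuleCat.restrictScalars φ).obj M) ↔
      x ∈ DRing.torsionSub (I.map φ) M := by
  constructor
  · rintro ⟨n, hn⟩
    refine ⟨n, fun b hb => ?_⟩
    rw [← Ideal.map_pow, Ideal.map] at hb
    refine Submodule.span_induction ?_ ?_ ?_ ?_ hb
    · rintro _ ⟨a, ha, rfl⟩
      exact hn a ha
    · exact zero_smul B x
    · intro _ _ _ _ h h'
      rw [add_smul, h, h', add_zero]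
    · intro r _ _ h
      rw [smul_eq_mul, mul_smul, h, smul_zero]
  · rintro ⟨n, hn⟩
    exact ⟨n, fun a ha => hn (φ a) (Ideal.map_pow φ I n ▸ Ideal.mem_map_of_mem φ ha)⟩

/-- Restriction of scalars preserves softness. -/
theorem isSoft_restrict (M : ModuleCat.{u} B) (h : IsSoft (A := B) M) :
    IsSoft (A := A) ((ModuleCat.restrictScalars φ).obj M) := by
  intro J f x hx n
  obtain ⟨y, hy, m, hm⟩ := h (J.map φ) (φ f) x ((mem_torsionSub_restrict φ J M x).1 hx) n
  refine ⟨y, (mem_torsionSub_restrict φ J M y).2 hy, m, ?_⟩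
  rw [← map_pow, ← map_pow] at hm
  exact hm

/-- `Γ_I` commutes with restriction of scalars. -/
noncomputable def gammaRestrictIso (C : CochainComplex (ModuleCat.{u} B) ℤ) :
    gammaCx I (((ModuleCat.restrictScalars φ).mapHomologicalComplex (ComplexShape.up ℤ)).obj C) ≅
      ((ModuleCat.restrictScalars φ).mapHomologicalComplex (ComplexShape.up ℤ)).obj (gammaCx (I.map φ) C) :=
  HomologicalComplex.Hom.isoOfComponents
    (fun n =>
      { hom := ModuleCat.ofHom
          (Y := ((ModuleCat.restrictScalars φ).obj ((DRing.gammaI (I.map φ)).obj (C.X n)) : ModuleCat.{u} A))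
          { toFun := fun v => ⟨v.1, (mem_torsionSub_restrict φ I (C.X n) v.1).1 v.2⟩
            map_add' := fun _ _ => rfl
            map_smul' := fun _ _ => rfl }
        inv := ModuleCat.ofHom
          (X := ((ModuleCat.restrictScalars φ).obj ((DRing.gammaI (I.map φ)).obj (C.X n)) : ModuleCat.{u} A))
          { toFun := fun v => ⟨v.1, (mem_torsionSub_restrict φ I (C.X n) v.1).2 v.2⟩
            map_add' := fun _ _ => rfl
            map_smul' := fun _ _ => rfl }
        hom_inv_id := rfl
        inv_hom_id := rfl })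
    fun _ _ _ => ModuleCat.hom_ext (LinearMap.ext fun _ => Subtype.ext rfl)

/-- `H_I(K|_A) ≅ H_{IB}(K)|_A`. -/
theorem nonempty_HDI_restrictD [IsNoetherianRing A] [IsNoetherianRing B] (K : Dual.D B) (i : ℤ) :
    Nonempty (Dual2.HDI A I ((DRing.restrictD φ).obj K) i ≅
      (ModuleCat.restrictScalars φ).obj (Dual2.HDI B (I.map φ) K i)) := by
  haveI := GrothLib.DualCx22.hasRgammaI I
  haveI := GrothLib.DualCx22.hasRgammaI (I.map φ)
  obtain ⟨C, hC, hinj, k, e, -⟩ := exists_model (I.map φ) K
  let R := (ModuleCat.restrictScalars.{u} φ).mapHomologicalComplex (ComplexShape.up ℤ)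
  let CA := R.obj C
  haveI hiso : IsIso (comp I CA) :=
    isIso_comp_of_soft I CA fun n => isSoft_restrict φ (C.X n) (haveI := hinj n; isSoft_of_injective (C.X n))
  let k' : DerivedCategory.Q.obj CA ≅ (DRing.restrictD φ).obj K :=
    ((ModuleCat.restrictScalars.{u} φ).mapDerivedCategoryFactors.app C).symm ≪≫ (DRing.restrictD φ).mapIso k
  obtain ⟨eA⟩ := nonempty_HD_equiv_HDI I ((DRing.restrictD φ).obj K) i
  obtain ⟨eB⟩ := nonempty_HD_equiv_HDI (I.map φ) K i
  let e₁ : Dual2.HDI A I ((DRing.restrictD φ).obj K) i ≃ₗ[A] (gammaCx I CA).homology i :=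
    eA.symm.trans ((hdIso ((DRing.RgammaI I).mapIso k'.symm) i).trans
      ((hdIso (asIso (comp I CA)).symm i).trans (hdEquiv (gammaCx I CA) i)))
  let e₂ : Dual2.HDI B (I.map φ) K i ≃ₗ[B] (gammaCx (I.map φ) C).homology i :=
    eB.symm.trans ((hdIso e i).trans (hdEquiv (gammaCx (I.map φ) C) i))
  let h : (gammaCx I CA).homology i ≅ (ModuleCat.restrictScalars φ).obj ((gammaCx (I.map φ) C).homology i) :=
    (HomologicalComplex.homologyFunctor _ _ i).mapIso (gammaRestrictIso φ I C) ≪≫
      ((gammaCx (I.map φ) C).sc i).mapHomologyIso (ModuleCat.restrictScalars.{u} φ)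
  let e₃ : (ModuleCat.restrictScalars φ).obj ((gammaCx (I.map φ) C).homology i) ≃ₗ[A]
      (ModuleCat.restrictScalars φ).obj (Dual2.HDI B (I.map φ) K i) :=
    { e₂.symm.toAddEquiv with map_smul' := fun a x => e₂.symm.map_smul (φ a) x }
  exact ⟨(e₁.trans (h.toLinearEquiv.trans e₃)).toModuleIso⟩

end GrothLib.HDIRestrict3
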